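import Groth.Agent.CurvStLib.Families
import Groth.Agent.AlgSpDec.RelDimSp

/-!
# Families of curves all of whose fibres have local dimension one
-/

set_option autoImplicit false
set_option linter.style.haveILetI false
set_option backward.isDefEq.respectTransparency false
set_option backward.isDefEq.respectTransparency.types false

universe u

open CategoryTheory CategoryTheory.Limits AlgebraicGeometry Opposite AlgSp

namespace Groth.Agent.CurvStLib

open Groth.Agent.AlgSpLib

/-- The etale local and the existential form of "fibres of local dimension one" agree. -/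
theorem locP_and_dimOne_iff {Q : ∀ {U V : Scheme.{u}}, (U ⟶ V) → ↥U → Prop} {S : Scheme.{u}} {F G : Sp S}
    {f : F ⟶ G} (hF : IsAlgSpace F) (hG : IsAlgSpace G) (hf : LocP @LocallyOfFiniteType f) (d : WithBot ℕ∞) :
    LocP (fun _ _ g => ∀ x, Q g x ∧ FlatMor.fibreDimAt g x = d) f ↔
      LocP (fun _ _ g => ∀ x, Q g x) f ∧
        ∀ x : Points F, HasAtMor (fun _ _ h u => FlatMor.fibreDimAt h u = d) f x := by
  constructor
  · refine fun h => ⟨fun U V a b k ha hb w x => (h a b k ha hb w x).1, fun x => ?_⟩
    obtain ⟨U, V, a, b, k, ha, ha', hb, -, w⟩ := exists_chart hF hG f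
    obtain ⟨u, rfl⟩ := surjective_ofPt ha' x
    exact ⟨U, V, a, b, k, u, ha, hb, w, rfl, (h a b k ha hb w u).2⟩
  · intro h U V a b k ha hb w u
    refine ⟨h.1 a b k ha hb w u, ?_⟩
    obtain ⟨U', V', a', b', k', u', ha', hb', w', hx, hu⟩ := h.2 (Points.ofPt a u)
    exact (AlgSpDec.RelDimSp.fibreDimAt_congr hf ha hb w ha' hb' w' hx.symm).trans hu

end Groth.Agent.CurvStLib
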