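import Groth.Prelude.Def_AlgSt3
import Groth.Agent.FibBase.FpMaps
import Groth.Agent.AlgStLib.OfSp
import Groth.Agent.AlgStLib.LocQ
import Groth.Agent.AlgStLib.FppfSite

/-!
# Open substacks of stacks in an arbitrary universe pair

A property of objects that is cut out, on the base of every object, by an open set compatible with morphisms gives an
open substack.
-/

set_option autoImplicit false
set_option linter.style.haveILetI false
set_option backward.isDefEq.respectTransparency false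
set_option backward.isDefEq.respectTransparency.types false

universe v w u

open CategoryTheory CategoryTheory.Functor CategoryTheory.Limits AlgebraicGeometry Opposite AlgSp

namespace Groth.Agent.CurvStLib

open Groth.Agent.FibBase Groth.Agent.AlgSpLib Groth.Agent.AlgStLib

variable {S : Scheme.{u}} {𝒳 : BasedCategory.{v, w} (Over S)}

local notation "K₀" => Scheme.fppfPrecoverage

/-- `Q` is cut out by open subsets of the bases, compatibly with the morphisms. -/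
structure OpenLocus (Q : 𝒳.obj → Prop) where
  /-- the locus in the base of an object -/
  locus : ∀ x : 𝒳.obj, Set (𝒳.p.obj x).left
  isOpen_locus : ∀ x, IsOpen (locus x)
  mem_iff : ∀ x, Q x ↔ locus x = Set.univ
  locus_hom : ∀ {y x : 𝒳.obj} (φ : y ⟶ x), locus y = (𝒳.p.map φ).left ⁻¹' locus x

variable {Q : 𝒳.obj → Prop}

theorem OpenLocus.of_hom (L : OpenLocus Q) ⦃y x : 𝒳.obj⦄ (φ : y ⟶ x) (h : Q x) : Q y := by
  rw [L.mem_iff] at h ⊢
  rw [L.locus_hom φ, h, Set.preimage_univ]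

theorem OpenLocus.closedUnderIso (L : OpenLocus Q) : ObjectProperty.IsClosedUnderIsomorphisms Q :=
  ⟨fun e h => L.of_hom e.inv h⟩

/-- On every chart the property is membership in an open subscheme. -/
theorem OpenLocus.exists_chart (L : OpenLocus Q) {U : Over S} (y : FibCat.overCat U ⥤ᵇ 𝒳) :
    ∃ V : U.left.Opens, ∀ a : Over U, Q (y.obj a) ↔ Set.range a.hom.left ⊆ (V : Set U.left) := by
  let c : U ⟶ 𝒳.p.obj (y.obj (Over.mk (𝟙 U))) := eqToHom (y.w_obj (Over.mk (𝟙 U))).symm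
  refine ⟨⟨c.left ⁻¹' L.locus _, (L.isOpen_locus _).preimage c.left.continuous⟩, fun a => ?_⟩
  rw [L.mem_iff, L.locus_hom (y.map (toId a))]
  have h : 𝒳.p.map (y.map (toId a)) = eqToHom (y.w_obj a) ≫ a.hom ≫ c := by
    have := overMap_isHomLift y (toId a)
    exact IsHomLift.fac' 𝒳.p (toId a).left (y.map (toId a))
  rw [h]
  let d : a.left ⟶ 𝒳.p.obj (y.obj a) := eqToHom (y.w_obj a).symm
  constructor
  · rintro hu _ ⟨t, rfl⟩
    show c.left (a.hom.left t) ∈ L.locus _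
    have e : d ≫ eqToHom (y.w_obj a) ≫ a.hom ≫ c = a.hom ≫ c := by simp [d]
    rw [← Scheme.Hom.comp_apply, ← Over.comp_left, ← e, Over.comp_left, Scheme.Hom.comp_apply]
    exact hu.ge (Set.mem_univ (d.left t))
  · intro hu
    refine Set.eq_univ_of_forall fun s => ?_
    have := hu ⟨(eqToHom (y.w_obj a)).left s, rfl⟩
    simp only [Set.mem_preimage, Over.comp_left, Scheme.Hom.comp_apply]
    exact this

theorem isHomLift_fullSub_iff {x y : (AlgSt.fullSub 𝒳 Q).obj} {a b : Over S} (f : a ⟶ b) (φ : x ⟶ y) :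
    (AlgSt.fullSub 𝒳 Q).p.IsHomLift f φ ↔ 𝒳.p.IsHomLift f φ.hom :=
  ⟨fun _ => IsHomLift.of_fac 𝒳.p f φ.hom (IsHomLift.domain_eq (AlgSt.fullSub 𝒳 Q).p f φ)
      (IsHomLift.codomain_eq (AlgSt.fullSub 𝒳 Q).p f φ) (IsHomLift.fac (AlgSt.fullSub 𝒳 Q).p f φ),
    fun _ => IsHomLift.of_fac (AlgSt.fullSub 𝒳 Q).p f φ (IsHomLift.domain_eq 𝒳.p f φ.hom)
      (IsHomLift.codomain_eq 𝒳.p f φ.hom) (IsHomLift.fac 𝒳.p f φ.hom)⟩

/-- A full subcategory stable under passage to the source of morphisms is fibred in groupoids. -/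
theorem isFibGrpd_fullSub (h𝒳 : FibCat.IsFibGrpd 𝒳.p) (hQ : ∀ ⦃y x : 𝒳.obj⦄, (y ⟶ x) → Q x → Q y) :
    FibCat.IsFibGrpd (AlgSt.fullSub 𝒳 Q).p := by
  refine ⟨fun {x V} f => ?_, fun {y x} φ => ?_⟩
  · obtain ⟨y, φ, hφ⟩ := h𝒳.exists_lift (x := x.obj) f
    exact ⟨⟨y, hQ φ x.property⟩, ObjectProperty.homMk φ, (isHomLift_fullSub_iff _ _).2 hφ⟩
  · have := h𝒳.isStronglyCartesian φ.hom
    have : (AlgSt.fullSub 𝒳 Q).p.IsHomLift ((AlgSt.fullSub 𝒳 Q).p.map φ) φ :=
      (isHomLift_fullSub_iff _ _).2 (show 𝒳.p.IsHomLift (𝒳.p.map φ.hom) φ.hom from inferInstance)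
    refine { universal_property' := fun {a'} g φ' hφ' => ?_ }
    have hφ2 : 𝒳.p.IsHomLift (g ≫ 𝒳.p.map φ.hom) φ'.hom := (isHomLift_fullSub_iff (g ≫ 𝒳.p.map φ.hom) φ').1 hφ'
    obtain ⟨χ, ⟨hχ, e⟩, huniq⟩ := Functor.IsStronglyCartesian.universal_property 𝒳.p (𝒳.p.map φ.hom) φ.hom g
      (g ≫ 𝒳.p.map φ.hom) rfl φ'.hom
    exact ⟨ObjectProperty.homMk χ, ⟨(isHomLift_fullSub_iff _ _).2 hχ, ObjectProperty.hom_ext _ e⟩,
      fun χ' ⟨h₁, h₂⟩ => ObjectProperty.hom_ext _ (huniq χ'.hom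
        ⟨(isHomLift_fullSub_iff _ _).1 h₁, congrArg (fun k => k.hom) h₂⟩)⟩

variable (L : OpenLocus Q)

section Factor

variable {Us U : Over S} (j : Us ⟶ U) [IsOpenImmersion j.left]

theorem exists_factor (a : Over U) (hr : Set.range a.hom.left ⊆ Set.range j.left) :
    ∃ (l : a.left ⟶ Us), l ≫ j = a.hom := by
  refine ⟨Over.homMk (IsOpenImmersion.lift j.left a.hom.left hr) ?_,
    Over.OverMorphism.ext (IsOpenImmersion.lift_fac _ _ _)⟩
  rw [← Over.w j, ← Category.assoc, IsOpenImmersion.lift_fac]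
  exact Over.w a.hom

theorem overMap_full : (AlgSt.overMap j).toFunctor.Full := ⟨fun {a b} t => by
  have hw : t.left ≫ b.hom ≫ j = a.hom ≫ j := Over.w t
  have hm : t.left ≫ b.hom = a.hom := by
    refine Over.OverMorphism.ext ((cancel_mono j.left).1 ?_)
    have := congrArg CommaMorphism.left hw
    simp only [Over.comp_left] at this ⊢
    exact (Category.assoc _ _ _).trans this
  exact ⟨Over.homMk t.left hm, Over.OverMorphism.ext rfl⟩⟩

omit [IsOpenImmersion j.left] in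
theorem overMap_faithful : (AlgSt.overMap j).toFunctor.Faithful :=
  ⟨fun h => Over.OverMorphism.ext (congrArg (fun k => Over.Hom.left k) h :)⟩

/-- A functor to the full subcategory through an open subscheme of a chart. -/
theorem fp_restrict_isEquivOver {𝒵 : BasedCategory.{v, w} (Over S)} {T : Over S} (j' : FibCat.overCat Us ⥤ᵇ 𝒵)
    (F : 𝒵 ⥤ᵇ 𝒳) (y : FibCat.overCat U ⥤ᵇ 𝒳) (x : FibCat.overCat T ⥤ᵇ 𝒵)
    (hff : F.toFunctor.Full ∧ F.toFunctor.Faithful) (i : BasedFunctor.comp j' F ≅ BasedFunctor.comp (AlgSt.overMap j) y)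
    (hmem : ∀ (t : Over T) (a : Over U), (F.obj (x.obj t) ≅ y.obj a) → Set.range a.hom.left ⊆ Set.range j.left) :
    ∃ k : FibCat.fp x j' ⥤ᵇ FibCat.fp (BasedFunctor.comp x F) y, FibCat.IsEquivOver k ∧
      Nonempty (BasedFunctor.comp k (FibCat.fpFst _ _) ≅ FibCat.fpFst x j') := by
  obtain ⟨_, _⟩ := hff
  have := overMap_full j
  have := overMap_faithful j
  let k : FibCat.fp x j' ⥤ᵇ FibCat.fp (BasedFunctor.comp x F) y :=
    FibCat.fpLift (FibCat.fpFst x j') (BasedFunctor.comp (FibCat.fpSnd x j') (AlgSt.overMap j))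
      (whiskerRightIso (FibCat.fpIso x j') F ≪≫ whiskerLeftIso (FibCat.fpSnd x j') i)
  have hk : ∀ ξ, (k.obj ξ).obj.iso.hom = F.map ξ.obj.iso.hom ≫ (isoApp i ξ.obj.snd).hom := fun ξ => rfl
  refine ⟨k, isEquivOver_of_exists_iso _ ⟨fun {ξ ξ'} t => ?_⟩ ⟨fun {ξ ξ'} t t' h => ?_⟩ fun η => ?_,
    ⟨Iso.refl _⟩⟩
  · obtain ⟨q, hq⟩ := (AlgSt.overMap j).toFunctor.map_surjective (X := ξ.obj.snd) (Y := ξ'.obj.snd) t.hom.snd
    refine ⟨ObjectProperty.homMk ⟨t.hom.fst, q, F.toFunctor.map_injective ?_⟩,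
      ObjectProperty.hom_ext _ (CategoricalPullback.hom_ext rfl hq)⟩
    have w : F.map (x.map t.hom.fst) ≫ (k.obj ξ').obj.iso.hom = (k.obj ξ).obj.iso.hom ≫ y.map t.hom.snd := t.hom.w
    rw [hk, hk, ← hq] at w
    have n : F.map (j'.map q) ≫ (isoApp i ξ'.obj.snd).hom =
        (isoApp i ξ.obj.snd).hom ≫ y.map ((AlgSt.overMap j).map q) := natural i q
    rw [← cancel_mono (isoApp i ξ'.obj.snd).hom]
    show F.map (x.map t.hom.fst ≫ ξ'.obj.iso.hom) ≫ _ = F.map (ξ.obj.iso.hom ≫ j'.map q) ≫ _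
    rw [Functor.map_comp, Functor.map_comp, Category.assoc, Category.assoc, n, ← Category.assoc]
    simpa using w
  · exact ObjectProperty.hom_ext _ (CategoricalPullback.hom_ext (congrArg (fun s => s.hom.fst) h :)
      ((AlgSt.overMap j).toFunctor.map_injective (congrArg (fun s => s.hom.snd) h :)))
  · let a := η.obj.snd
    obtain ⟨l, hl⟩ := exists_factor j a (hmem η.obj.fst a η.obj.iso)
    let b : Over Us := Over.mk l
    let i₁ : (AlgSt.overMap j).obj b ≅ a := Over.isoMk (Iso.refl a.left) ((Category.id_comp _).trans hl.symm)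
    let e₀ : F.obj (x.obj η.obj.fst) ≅ F.obj (j'.obj b) :=
      η.obj.iso ≪≫ y.toFunctor.mapIso i₁.symm ≪≫ (isoApp i b).symm
    let e₁ : x.obj η.obj.fst ≅ j'.obj b := F.toFunctor.preimageIso e₀
    have hproj : a.left = η.obj.fst.left := snd_proj η
    have hh : (𝒵.p.IsHomLift (𝟙 ((FibCat.overCat T).p.obj η.obj.fst)) e₁.hom) := by
      rw [← F.isHomLift_iff]
      have h₀ : F.map e₁.hom = e₀.hom := F.toFunctor.map_preimage _
      rw [h₀]
      have h1 : 𝒳.p.IsHomLift (𝟙 η.obj.fst.left) η.obj.iso.hom := η.property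
      have h2 : 𝒳.p.IsHomLift (𝟙 η.obj.fst.left) (y.map i₁.inv) := by
        have := overMap_isHomLift y i₁.inv
        exact isHomLift_id_congr hproj (show 𝒳.p.IsHomLift (𝟙 a.left) (y.map i₁.inv) from this)
      have h3 : 𝒳.p.IsHomLift (𝟙 η.obj.fst.left) (isoApp i b).inv := isoApp_inv_lift i hproj
      have h4 : 𝒳.p.IsHomLift (𝟙 η.obj.fst.left ≫ 𝟙 η.obj.fst.left ≫ 𝟙 η.obj.fst.left)
          (η.obj.iso.hom ≫ y.map i₁.inv ≫ (isoApp i b).inv) := inferInstance
      simp only [Category.comp_id] at h4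
      exact h4
    let ξ : (FibCat.fp x j').obj := ⟨⟨η.obj.fst, b, e₁⟩, hh⟩
    refine ⟨ξ, fpIsoMk (x := k.obj ξ) (y := η) (Iso.refl _) i₁ ?_, ?_⟩
    · rw [hk]
      show F.map (x.map (𝟙 _)) ≫ η.obj.iso.hom = (F.map e₁.hom ≫ (isoApp i b).hom) ≫ y.map i₁.hom
      have h₀ : F.map e₁.hom = e₀.hom := F.toFunctor.map_preimage _
      rw [h₀, CategoryTheory.Functor.map_id, CategoryTheory.Functor.map_id, Category.id_comp]
      simp only [e₀, Iso.trans_hom, Functor.mapIso_hom, Iso.symm_hom, Category.assoc, Iso.inv_hom_id_assoc]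
      rw [← Functor.map_comp, Iso.inv_hom_id, CategoryTheory.Functor.map_id]
      exact (Category.comp_id _).symm
    · exact fp_isHomLift _ _ (h := IsHomLift.id (p := (FibCat.overCat T).p) rfl)

end Factor

include L

theorem isOpenImm_subIncl : AlgSt.IsOpenImm (AlgSt.subIncl 𝒳 Q) := fun U y => by
  obtain ⟨V, hV⟩ := L.exists_chart y
  let Vs : Over S := Over.mk (V.ι ≫ U.hom)
  let j : Vs ⟶ U := Over.homMk V.ι rfl
  have : IsOpenImmersion j.left := inferInstanceAs (IsOpenImmersion V.ι)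
  have hmem : ∀ c : Over Vs, Q (y.obj ((AlgSt.overMap j).obj c)) := fun c => (hV _).2 <| by
    rintro _ ⟨w, rfl⟩
    exact (c.hom.left w).2
  let y' : FibCat.overCat Vs ⥤ᵇ AlgSt.fullSub 𝒳 Q :=
    { toFunctor := ObjectProperty.lift _ (BasedFunctor.comp (AlgSt.overMap j) y).toFunctor hmem
      w := (BasedFunctor.comp (AlgSt.overMap j) y).w }
  let e : FibCat.overCat Vs ⥤ᵇ FibCat.fp y (AlgSt.subIncl 𝒳 Q) :=
    FibCat.fpLift (AlgSt.overMap j) y' (Iso.refl (BasedFunctor.comp (AlgSt.overMap j) y))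
  have := overMap_full j
  have := overMap_faithful j
  have he : FibCat.IsEquivOver e := by
    refine isEquivOver_of_exists_iso _ ⟨fun {a b} t => ?_⟩ ⟨fun {a b} t t' h => ?_⟩ fun η => ?_
    · obtain ⟨φ, hfst⟩ := (AlgSt.overMap j).toFunctor.map_surjective t.hom.fst
      refine ⟨φ, ?_⟩
      refine ObjectProperty.hom_ext _ (CategoricalPullback.hom_ext hfst (ObjectProperty.hom_ext _ ?_))
      have h' : y.map t.hom.fst ≫ 𝟙 _ = 𝟙 _ ≫ t.hom.snd.hom := t.hom.w
      show y.map ((AlgSt.overMap j).map φ) = t.hom.snd.hom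
      rw [hfst]
      exact ((Category.comp_id _).symm.trans h').trans (Category.id_comp _)
    · exact (AlgSt.overMap j).toFunctor.map_injective (congrArg (fun k => k.hom.fst) h :)
    · let a := η.obj.fst
      have hr : Set.range a.hom.left ⊆ Set.range j.left := by
        show _ ⊆ Set.range V.ι
        rw [Scheme.Opens.range_ι]
        exact (hV a).1 (L.of_hom η.obj.iso.hom η.obj.snd.property)
      obtain ⟨l, hl⟩ := exists_factor j a hr
      let i₁ : (AlgSt.overMap j).obj (Over.mk l) ≅ a := Over.isoMk (Iso.refl a.left)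
        ((Category.id_comp _).trans hl.symm)
      let i₂ : y'.obj (Over.mk l) ≅ η.obj.snd := ObjectProperty.isoMk _ (y.toFunctor.mapIso i₁ ≪≫ η.obj.iso)
      refine ⟨Over.mk l, fpIsoMk (x := e.obj (Over.mk l)) (y := η) i₁ i₂ ?_, ?_⟩
      · show y.map i₁.hom ≫ η.obj.iso.hom = 𝟙 _ ≫ (y.map i₁.hom ≫ η.obj.iso.hom)
        simp
      · exact fp_isHomLift (𝟙 _) _ (h := IsHomLift.of_fac _ _ _ rfl rfl (by
          show 𝟙 a.left = 𝟙 _ ≫ 𝟙 a.left ≫ 𝟙 _
          simp))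
  refine ⟨⟨(yon S).obj Vs, IsAlgSpace.yon_obj Vs⟩, BasedFunctor.comp (AlgSt.toOverCat Vs) e,
    isEquivOver_comp (isEquivOver_toOverCat Vs) he, ?_⟩
  rw [spMapOfOver_congr (show BasedFunctor.comp (BasedFunctor.comp (AlgSt.toOverCat Vs) e) (FibCat.fpFst y _) ≅
      BasedFunctor.comp (AlgSt.ofSpMap ((yon S).map j)) (AlgSt.toOverCat U) from toOverCatMapIso j),
    spMapOfOver_ofSpMap_toOverCat]
  exact (repWith_yon_map_iff _ j).2 (inferInstanceAs (IsOpenImmersion V.ι))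

theorem isStack_fullSub (h𝒳 : Stk.IsStack (QuotSh.J K₀ S) 𝒳) :
    Stk.IsStack (QuotSh.J K₀ S) (AlgSt.fullSub 𝒳 Q) := by
  refine ⟨isFibGrpd_fullSub h𝒳.1 L.of_hom, fun U R hR => ?_⟩
  have hX : (Stk.resSieve R 𝒳).IsEquivalence := h𝒳.2 R hR
  let incl := AlgSt.subIncl 𝒳 Q
  refine { faithful := ⟨fun {G H} α β h => ?_⟩, full := ⟨fun {G H} α => ?_⟩, essSurj := ⟨fun H => ?_⟩ }
  · have h' : (Stk.resSieve R 𝒳).map (BasedCategory.whiskerRight α incl) =
        (Stk.resSieve R 𝒳).map (BasedCategory.whiskerRight β incl) := by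
      refine BasedNatTrans.ext _ _ (CategoryTheory.NatTrans.ext (funext fun b => ?_))
      exact congrArg (fun γ => (ObjectProperty.ι Q).map ((BasedNatTrans.toNatTrans γ).app b)) h
    have h'' := (Stk.resSieve R 𝒳).map_injective h'
    refine BasedNatTrans.ext _ _ (CategoryTheory.NatTrans.ext (funext fun a => ObjectProperty.hom_ext _ ?_))
    exact congrArg (fun γ => (BasedNatTrans.toNatTrans γ).app a) h''
  · obtain ⟨β, hβ⟩ := (Stk.resSieve R 𝒳).map_surjective (X := BasedFunctor.comp G incl)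
      (Y := BasedFunctor.comp H incl) (BasedCategory.whiskerRight α incl)
    refine ⟨{ app := fun a => ObjectProperty.homMk (β.toNatTrans.app a)
              naturality := fun a b g => ObjectProperty.hom_ext _ (β.toNatTrans.naturality g)
              isHomLift' := fun a => (isHomLift_fullSub_iff _ _).2 (β.isHomLift' a) }, ?_⟩
    refine BasedNatTrans.ext _ _ (CategoryTheory.NatTrans.ext (funext fun b => ObjectProperty.hom_ext _ ?_))
    exact congrArg (fun γ => (BasedNatTrans.toNatTrans γ).app b) hβ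
  · let y := (Stk.resSieve R 𝒳).objPreimage (BasedFunctor.comp H incl)
    let e : BasedFunctor.comp (Stk.sieveIncl R) y ≅ BasedFunctor.comp H incl :=
      (Stk.resSieve R 𝒳).objObjPreimageIso (BasedFunctor.comp H incl)
    obtain ⟨V, hV⟩ := L.exists_chart y
    obtain ⟨ι, W, v, -, -, hsurj, hmem⟩ := exists_fppf_of_mem_J hR
    have hQ : ∀ a : Over U, Q (y.obj a) := fun a => (hV a).2 <| by
      rintro u -
      obtain ⟨i, t, ht⟩ := hsurj u
      let b : (Stk.sieveCat R).obj := ⟨Over.mk (v i), hmem i⟩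
      exact (hV (Over.mk (v i))).1 (L.of_hom (isoApp e b).hom (H.obj b).property) ⟨t, ht⟩
    let G : FibCat.overCat U ⥤ᵇ AlgSt.fullSub 𝒳 Q :=
      { toFunctor := ObjectProperty.lift _ y.toFunctor hQ
        w := y.w }
    exact ⟨G, ⟨BasedNatIso.mkNatIso
      (NatIso.ofComponents (fun b => ObjectProperty.isoMk _ (isoApp e b))
        fun g => ObjectProperty.hom_ext _ (natural e g))
      fun b => (isHomLift_fullSub_iff _ _).2 (isoApp_lift e rfl)⟩⟩

theorem repByAlgSp1_diag_fullSub (h : AlgSt.RepByAlgSp1 (FibCat.diag (FibCat.toSelf 𝒳))) :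
    AlgSt.RepByAlgSp1 (FibCat.diag (FibCat.toSelf (AlgSt.fullSub 𝒳 Q))) := fun U y => by
  let incl := AlgSt.subIncl 𝒳 Q
  let tQ := FibCat.toSelf (AlgSt.fullSub 𝒳 Q)
  let tX := FibCat.toSelf 𝒳
  let m : FibCat.fp tQ tQ ⥤ᵇ FibCat.fp tX tX :=
    FibCat.fpLift (BasedFunctor.comp (FibCat.fpFst tQ tQ) incl) (BasedFunctor.comp (FibCat.fpSnd tQ tQ) incl)
      (FibCat.fpIso tQ tQ)
  let i : BasedFunctor.comp (FibCat.diag tQ) m ≅ BasedFunctor.comp incl (FibCat.diag tX) := Iso.refl _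
  let k : FibCat.fp y (FibCat.diag tQ) ⥤ᵇ FibCat.fp (BasedFunctor.comp y m) (FibCat.diag tX) :=
    FibCat.fpLift (FibCat.fpFst _ _) (BasedFunctor.comp (FibCat.fpSnd _ _) incl)
      (whiskerRightIso (FibCat.fpIso y (FibCat.diag tQ)) m ≪≫ whiskerLeftIso (FibCat.fpSnd y (FibCat.diag tQ)) i)
  have hk : ∀ ξ, (k.obj ξ).obj.iso.hom = m.map ξ.obj.iso.hom ≫ 𝟙 _ := fun ξ => rfl
  have hk' : ∀ {c d} (φ : c ⟶ d), (m.map φ).hom.fst = φ.hom.fst.hom ∧ (m.map φ).hom.snd = φ.hom.snd.hom :=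
    fun φ => ⟨rfl, rfl⟩
  have hm : m.toFunctor.Faithful := ⟨fun {a b} φ ψ h => ObjectProperty.hom_ext _ (CategoricalPullback.hom_ext
    (ObjectProperty.hom_ext _ (congrArg (fun s => s.hom.fst) h :))
    (ObjectProperty.hom_ext _ (congrArg (fun s => s.hom.snd) h :)))⟩
  have hmf : m.toFunctor.Full := ⟨fun {a b} φ => ⟨ObjectProperty.homMk
    ⟨ObjectProperty.homMk φ.hom.fst, ObjectProperty.homMk φ.hom.snd, φ.hom.w⟩, rfl⟩⟩
  have he : FibCat.IsEquivOver k := by
    refine isEquivOver_of_exists_iso _ ⟨fun {ξ ξ'} t => ?_⟩ ⟨fun {ξ ξ'} t t' h => ?_⟩ fun η => ?_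
    · refine ⟨ObjectProperty.homMk ⟨t.hom.fst, ObjectProperty.homMk t.hom.snd, m.toFunctor.map_injective ?_⟩,
        ObjectProperty.hom_ext _ (CategoricalPullback.hom_ext rfl rfl)⟩
      have w : m.map (y.map t.hom.fst) ≫ (k.obj ξ').obj.iso.hom =
          (k.obj ξ).obj.iso.hom ≫ (FibCat.diag tX).map t.hom.snd := t.hom.w
      rw [hk, hk, Category.comp_id, Category.comp_id] at w
      rw [Functor.map_comp, Functor.map_comp]
      exact w
    · exact ObjectProperty.hom_ext _ (CategoricalPullback.hom_ext (congrArg (fun s => s.hom.fst) h :)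
        (ObjectProperty.hom_ext _ (congrArg (fun s => s.hom.snd) h :)))
    · let x := η.obj.snd
      let e' : (y.obj η.obj.fst).obj.fst.obj ≅ x :=
        (FibCat.fpFst tX tX).toFunctor.mapIso η.obj.iso
      have hx : Q x := L.of_hom e'.inv (y.obj η.obj.fst).obj.fst.property
      let e₁ : y.obj η.obj.fst ≅ (FibCat.diag tQ).obj ⟨x, hx⟩ := m.toFunctor.preimageIso η.obj.iso
      have hh : (FibCat.fp tQ tQ).p.IsHomLift (𝟙 ((FibCat.overCat U).p.obj η.obj.fst)) e₁.hom := by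
        rw [← m.isHomLift_iff]
        have h₀ : m.map e₁.hom = η.obj.iso.hom := m.toFunctor.map_preimage _
        rw [h₀]
        exact η.property
      let ξ : (FibCat.fp y (FibCat.diag tQ)).obj := ⟨⟨η.obj.fst, ⟨x, hx⟩, e₁⟩, hh⟩
      refine ⟨ξ, fpIsoMk (x := k.obj ξ) (y := η) (Iso.refl _) (Iso.refl _) ?_, ?_⟩
      · rw [hk]
        show m.map (y.map (𝟙 _)) ≫ η.obj.iso.hom = (m.map e₁.hom ≫ 𝟙 _) ≫ (FibCat.diag tX).map (𝟙 _)
        have h₀ : m.map e₁.hom = η.obj.iso.hom := m.toFunctor.map_preimage _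
        rw [h₀, CategoryTheory.Functor.map_id, CategoryTheory.Functor.map_id, Category.id_comp, Category.comp_id]
        exact (Category.comp_id _).symm
      · exact fp_isHomLift _ _ (h := IsHomLift.id (p := (FibCat.overCat U).p) rfl)
  obtain ⟨g, h₁, h₂⟩ := he
  obtain ⟨F, e, heF⟩ := h U (BasedFunctor.comp y m)
  exact ⟨F, BasedFunctor.comp e g, isEquivOver_comp heF ⟨k, h₂, h₁⟩⟩

theorem hasAtlas_fullSub {P : MorphismProperty (Sp S)} (h : AlgSt.HasAtlas P 𝒳) :
    AlgSt.HasAtlas P (AlgSt.fullSub 𝒳 Q) := by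
  obtain ⟨U, x, hP, hS⟩ := h
  obtain ⟨V, hV⟩ := L.exists_chart x
  let Vs : Over S := Over.mk (V.ι ≫ U.hom)
  let j : Vs ⟶ U := Over.homMk V.ι rfl
  have : IsOpenImmersion j.left := inferInstanceAs (IsOpenImmersion V.ι)
  have hmem : ∀ c : Over Vs, Q (x.obj ((AlgSt.overMap j).obj c)) := fun c => (hV _).2 <| by
    rintro _ ⟨w, rfl⟩
    exact (c.hom.left w).2
  let x' : FibCat.overCat Vs ⥤ᵇ AlgSt.fullSub 𝒳 Q :=
    { toFunctor := ObjectProperty.lift _ (BasedFunctor.comp (AlgSt.overMap j) x).toFunctor hmem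
      w := (BasedFunctor.comp (AlgSt.overMap j) x).w }
  refine ⟨Vs, x', ?_, ?_⟩
  all_goals
    intro T z
    obtain ⟨k, hk, ⟨i⟩⟩ := fp_restrict_isEquivOver j x' (AlgSt.subIncl 𝒳 Q) x z
      ⟨inferInstanceAs (ObjectProperty.ι Q).Full, inferInstanceAs (ObjectProperty.ι Q).Faithful⟩
      (Iso.refl _) fun t a e => by
        show _ ⊆ Set.range V.ι
        rw [Scheme.Opens.range_ι]
        exact (hV a).1 (L.of_hom e.inv (z.obj t).property)
    obtain ⟨g, ⟨g₁⟩, ⟨g₂⟩⟩ := hk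
    first
      | obtain ⟨F, e, he, hF⟩ := hP T (BasedFunctor.comp z (AlgSt.subIncl 𝒳 Q))
        refine ⟨F, BasedFunctor.comp e g, isEquivOver_comp he ⟨k, ⟨g₂⟩, ⟨g₁⟩⟩, ?_⟩
        rw [spMapOfOver_congr (show BasedFunctor.comp (BasedFunctor.comp e g) (FibCat.fpFst z x') ≅
            BasedFunctor.comp e (FibCat.fpFst _ x) from
          whiskerLeftIso (BasedFunctor.comp e g) i.symm ≪≫
            whiskerLeftIso e (whiskerRightIso g₂ (FibCat.fpFst _ x)))]
        exact hF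
      | obtain ⟨F, e, he, hF⟩ := hS T (BasedFunctor.comp z (AlgSt.subIncl 𝒳 Q))
        refine ⟨F, BasedFunctor.comp e g, isEquivOver_comp he ⟨k, ⟨g₂⟩, ⟨g₁⟩⟩, ?_⟩
        rw [spMapOfOver_congr (show BasedFunctor.comp (BasedFunctor.comp e g) (FibCat.fpFst z x') ≅
            BasedFunctor.comp e (FibCat.fpFst _ x) from
          whiskerLeftIso (BasedFunctor.comp e g) i.symm ≪≫
            whiskerLeftIso e (whiskerRightIso g₂ (FibCat.fpFst _ x)))]
        exact hF

/-- A property cut out by open subsets of the bases defines an open substack. -/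
theorem isOpenSubstack_of_openLocus (h𝒳 : AlgSt.IsAlgStack K₀ 𝒳) : AlgSt.IsOpenSubstack 𝒳 Q K₀ :=
  ⟨L.closedUnderIso, ⟨isStack_fullSub L h𝒳.isStack, repByAlgSp1_diag_fullSub L h𝒳.diag,
    hasAtlas_fullSub L h𝒳.atlas⟩, isOpenImm_subIncl L⟩

end Groth.Agent.CurvStLib
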