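import Groth.Prelude.Def_AlgSpMor5
import Groth.Agent.AlgSpLib.FlatAt
import Groth.Agent.AlgSpLib.EtLocalInst
import Groth.Agent.AlgSpLib.Points

/-!
# Loci of pointwise properties on algebraic spaces

A pointwise property of flat morphisms of finite presentation which is local for etale maps, open and compatible
with base change gives an open locus on algebraic spaces compatible with base change.
-/

set_option autoImplicit false
set_option linter.style.haveILetI false
set_option backward.isDefEq.respectTransparency false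
set_option backward.isDefEq.respectTransparency.types false

universe u

open CategoryTheory CategoryTheory.Limits AlgebraicGeometry Opposite AlgSp Groth.Agent.AlgSpLib

namespace Groth.Agent.CurvStLib

/-- A pointwise property of flat morphisms locally of finite presentation: etale local, open, compatible with base
change. -/
structure IsPtLocal (Q : ∀ {U V : Scheme.{u}}, (U ⟶ V) → ↥U → Prop) : Prop where
  comp_left : ∀ {X Y Z : Scheme.{u}} (r : X ⟶ Y) (h : Y ⟶ Z) [Etale r] [Flat h] [LocallyOfFinitePresentation h]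
    (x : X), Q (r ≫ h) x ↔ Q h (r x)
  comp_right : ∀ {X Y Z : Scheme.{u}} (k : X ⟶ Y) (e : Y ⟶ Z) [Etale e] [Flat k] [LocallyOfFinitePresentation k]
    (x : X), Q (k ≫ e) x ↔ Q k x
  isOpen : ∀ {X Y : Scheme.{u}} (f : X ⟶ Y) [Flat f] [LocallyOfFinitePresentation f], IsOpen {x | Q f x}
  baseChange : ∀ {X Y X' Y' : Scheme.{u}} {g' : X' ⟶ X} {f' : X' ⟶ Y'} {f : X ⟶ Y} {g : Y' ⟶ Y},
    IsPullback g' f' f g → ∀ [Flat f] [LocallyOfFinitePresentation f] (x' : X'), Q f' x' ↔ Q f (g' x')

variable {Q : ∀ {U V : Scheme.{u}}, (U ⟶ V) → ↥U → Prop} {S : Scheme.{u}} {X Y : Sp S}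

variable (Q) in
/-- The points at which `f` has `Q`. -/
def locus (f : X ⟶ Y) : Set (Points X) := {x | LocPAt Q f x}

theorem locP_iff_locus (f : X ⟶ Y) :
    LocP (fun _ _ g => ∀ x, Q g x) f ↔ locus Q f = Set.univ :=
  ⟨fun h => Set.eq_univ_of_forall fun _ _ _ a b k u ha hb w _ => h a b k ha hb w u,
    fun h _ _ a b k ha hb w u => h.ge (Set.mem_univ (Points.ofPt a u)) a b k u ha hb w rfl⟩

variable (hQ : IsPtLocal Q) {f : X ⟶ Y} (hfl : LocP @Flat f) (hfp : LocP @LocallyOfFinitePresentation f)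

include hQ hfl hfp

theorem mem_locus_iff {U V : Over S} {a : (yon S).obj U ⟶ X} {b : (yon S).obj V ⟶ Y} {h : U ⟶ V}
    (ha : RepWith @Etale a) (hb : RepWith @Etale b) (w : a ≫ f = (yon S).map h ≫ b) (u : U.left) :
    Points.ofPt a u ∈ locus Q f ↔ Q h.left u := by
  refine ⟨fun H => H a b h u ha hb w rfl, fun H U₁ V₁ a₁ b₁ h₁ u₁ ha₁ hb₁ w₁ hu₁ => ?_⟩
  have : Flat h.left := hfl a b h ha hb w
  have : LocallyOfFinitePresentation h.left := hfp a b h ha hb w
  have : Flat h₁.left := hfl a₁ b₁ h₁ ha₁ hb₁ w₁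
  have : LocallyOfFinitePresentation h₁.left := hfp a₁ b₁ h₁ ha₁ hb₁ w₁
  obtain ⟨z, hz, hz₁⟩ := exists_ofPt_of_eq (ha.rep.isPullback' a₁) hu₁.symm
  subst hz hz₁
  set r := ha.rep.fst' a₁
  set r₁ := ha.rep.snd a₁
  have hr₁ : Etale r₁.left := ha.property_snd a₁
  have hr : Etale r.left := ha₁.2 a _ _ (ha.rep.isPullback' a₁).flip
  let e := hb.rep.fst' b₁
  let e₁ := hb.rep.snd b₁
  have he₁ : Etale e₁.left := hb.property_snd b₁
  have he : Etale e.left := hb₁.2 b _ _ (hb.rep.isPullback' b₁).flip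
  obtain ⟨k, hk, hk₁⟩ : ∃ k, k ≫ e = r ≫ h ∧ k ≫ e₁ = r₁ ≫ h₁ := by
    obtain ⟨k, hk⟩ := (yon S).map_surjective ((hb.rep.isPullback' b₁).lift ((yon S).map (r ≫ h))
      ((yon S).map (r₁ ≫ h₁)) (by
        rw [Functor.map_comp, Functor.map_comp, Category.assoc, Category.assoc, ← w, ← w₁, ← Category.assoc,
          ← Category.assoc]
        exact congrArg (· ≫ f) (ha.rep.isPullback' a₁).w))
    exact ⟨k, (yon S).map_injective (by rw [Functor.map_comp, hk, IsPullback.lift_fst]),
      (yon S).map_injective (by rw [Functor.map_comp, hk, IsPullback.lift_snd])⟩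
  have hk' : k.left ≫ e.left = r.left ≫ h.left := congrArg Over.Hom.left hk
  have hk₁' : k.left ≫ e₁.left = r₁.left ≫ h₁.left := congrArg Over.Hom.left hk₁
  have : Flat (k.left ≫ e.left) := hk' ▸ inferInstance
  have : Flat k.left := IsEtLocal.cancel_right k.left e.left ‹_›
  have : LocallyOfFinitePresentation (k.left ≫ e.left) := hk' ▸ inferInstance
  have : LocallyOfFinitePresentation k.left := IsEtLocal.cancel_right k.left e.left ‹_›
  have h1 := hQ.comp_left r.left h.left z
  have h2 := hQ.comp_left r₁.left h₁.left z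
  rw [← hk', hQ.comp_right k.left e.left z] at h1
  rw [← hk₁', hQ.comp_right k.left e₁.left z] at h2
  exact h2.1 (h1.2 H)

theorem isOpen_locus (hX : IsAlgSpace X) (hY : IsAlgSpace Y) : IsOpen (locus Q f) := by
  obtain ⟨U, V, a, b, h, ha, has, hb, -, w⟩ := exists_chart hX hY f
  refine (isOpen_iff_chart ha has).2 ?_
  have : Flat h.left := hfl a b h ha hb w
  have : LocallyOfFinitePresentation h.left := hfp a b h ha hb w
  convert hQ.isOpen h.left using 1
  exact Set.ext fun u => mem_locus_iff hQ hfl hfp ha hb w u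

theorem locus_baseChange (hX : IsAlgSpace X) (hY : IsAlgSpace Y) {X' Y' : Sp S} (hY' : IsAlgSpace Y')
    {pX : X' ⟶ X} {f' : X' ⟶ Y'} {pY : Y' ⟶ Y} (sq : IsPullback pX f' f pY) :
    locus Q f' = Points.map pX ⁻¹' locus Q f := by
  have hfl' := locP_of_isPullback sq hX hY hY' hfl
  have hfp' := locP_of_isPullback sq hX hY hY' hfp
  obtain ⟨V, b, hb, hbs⟩ := hY.atlas
  obtain ⟨U, e, h, he, hes, hh⟩ := exists_chart_over hX hY f b
  have ha := repWith_comp he (repWith_fst f hb)
  have wh : (e ≫ pullback.fst f b) ≫ f = (yon S).map h ≫ b := by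
    rw [Category.assoc, pullback.condition, ← Category.assoc, hh]
  have : Flat h.left := hfl _ b h ha hb wh
  have : LocallyOfFinitePresentation h.left := hfp _ b h ha hb wh
  obtain ⟨V', eV, cV, heV, heVs, hcV⟩ := exists_chart_over hY' hY pY b
  have hb' : RepWith @Etale (eV ≫ pullback.fst pY b) := repWith_comp heV (repWith_fst pY hb)
  have hbs' : RepWith @Surjective (eV ≫ pullback.fst pY b) := repWith_comp heVs (repWith_fst pY hbs)
  have wc : (eV ≫ pullback.fst pY b) ≫ pY = (yon S).map cV ≫ b := by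
    rw [Category.assoc, pullback.condition, ← Category.assoc, hcV]
  obtain ⟨U', c', h', a', sU, ha', has', wh', wc'⟩ := exists_chart_baseChange sq wc hh he hes hb' hbs'
  refine Set.ext fun x' => ?_
  obtain ⟨u', rfl⟩ := surjective_ofPt has' x'
  simp only [Set.mem_preimage]
  rw [Points.map_ofPt, wc', ofPt_comp, mem_locus_iff hQ hfl hfp ha hb wh,
    mem_locus_iff hQ hfl' hfp' ha' hb' wh']
  have : Flat ((Over.forget S).map h) := ‹Flat h.left›
  have : LocallyOfFinitePresentation ((Over.forget S).map h) := ‹LocallyOfFinitePresentation h.left›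
  exact hQ.baseChange (sU.map (Over.forget S)) u'

end Groth.Agent.CurvStLib
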