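import Groth.Prelude.Def_StCurv2
import Groth.Agent.CurvStLib.OpenSubstack
import Groth.Agent.CurvStLib.PtLocus

/-!
# Open loci in the base of a family of curves
-/

set_option autoImplicit false
set_option linter.style.haveILetI false
set_option backward.isDefEq.respectTransparency false
set_option backward.isDefEq.respectTransparency.types false

universe u

open CategoryTheory CategoryTheory.Limits AlgebraicGeometry Opposite AlgSp

namespace Groth.Agent.CurvStLib

open Groth.Agent.AlgSpLib

variable {S : Scheme.{u}} {n : ℕ}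

theorem isClosedMap_of_proper {F G : Sp S} (hG : IsAlgSpace G) {f : F ⟶ G} (hf : IsProperMor f) :
    IsClosedMap (Points.map f) :=
  hf.2.2 hG (𝟙 G) (𝟙 F) f (IsPullback.of_id_fst)

/-- An open set of points of every total space, compatible with morphisms, gives an open locus on the bases: the
points whose whole fibre lies in the set. -/
noncomputable def openLocusOfPoints {Q : (CurvSt.Curves S n).obj → Prop}
    (W : ∀ A : (CurvSt.Curves S n).obj, Set (Points A.obj.X)) (hW : ∀ A, IsOpen (W A))
    (hQ : ∀ A, Q A ↔ W A = Set.univ)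
    (hmap : ∀ {B A : (CurvSt.Curves S n).obj} (φ : B ⟶ A), W B = Points.map φ.hom.top ⁻¹' W A) :
    OpenLocus Q where
  locus A := {t | Points.schemeHomeo A.obj.base t ∉ Points.map A.obj.f '' (W A)ᶜ}
  isOpen_locus A := by
    have hc := (isClosedMap_of_proper (IsAlgSpace.yon_obj _) A.property.2.2.1) _ (hW A).isClosed_compl
    exact (hc.isOpen_compl).preimage (Points.schemeHomeo A.obj.base).continuous
  mem_iff A := by
    rw [hQ]
    refine ⟨fun h => Set.eq_univ_of_forall fun t => ?_, fun h => Set.eq_univ_of_forall fun x => ?_⟩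
    · rintro ⟨x, hx, -⟩
      exact hx (h.ge (Set.mem_univ x))
    · obtain ⟨t, ht⟩ := (Points.schemeHomeo A.obj.base).surjective (Points.map A.obj.f x)
      by_contra hx
      exact h.ge (Set.mem_univ t) ⟨x, hx, ht.symm⟩
  locus_hom {B A} φ := by
    show _ = φ.hom.base.left ⁻¹' _
    ext t
    have key := Set.ext_iff.1 (image_map_snd_preimage_fst φ.hom.cart (W A)ᶜ) (Points.schemeHomeo B.obj.base t)
    rw [Set.mem_preimage, Points.map_yon_map_apply, Set.preimage_compl, ← hmap φ] at key
    exact not_congr key

variable {Q : ∀ {U V : Scheme.{u}}, (U ⟶ V) → ↥U → Prop} (hQ : IsPtLocal Q)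

include hQ

theorem locus_hom {B A : (CurvSt.Curves S n).obj} (φ : B ⟶ A) :
    locus Q B.obj.f = Points.map φ.hom.top ⁻¹' locus Q A.obj.f :=
  locus_baseChange hQ A.property.2.1 A.property.2.2.2.1.1 A.property.1 (IsAlgSpace.yon_obj _)
    (IsAlgSpace.yon_obj _) φ.hom.cart

theorem isOpen_famLocus (A : (CurvSt.Curves S n).obj) : IsOpen (locus Q A.obj.f) :=
  isOpen_locus hQ A.property.2.1 A.property.2.2.2.1.1 A.property.1 (IsAlgSpace.yon_obj _)

/-- The families having a pointwise property everywhere form an open substack. -/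
theorem isOpenSubstack_locP (hC : AlgSt.IsAlgStack Scheme.fppfPrecoverage (CurvSt.Curves S n)) :
    AlgSt.IsOpenSubstack (CurvSt.Curves S n) (fun A => LocP (fun _ _ g => ∀ x, Q g x) A.obj.f)
      Scheme.fppfPrecoverage :=
  isOpenSubstack_of_openLocus (openLocusOfPoints (fun A => locus Q A.obj.f) (isOpen_famLocus hQ)
    (fun _ => locP_iff_locus _) (locus_hom hQ)) hC

end Groth.Agent.CurvStLib
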