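import Groth.Agent.CurvStLib.PtLocus
import Groth.Agent.AlgSpDec.KoszulWhere
import Groth.Agent.AlgSpDec.GorOpen
import Groth.Agent.AlgSpDec.GorField
import Groth.Agent.AlgSpDec.SmoothLocDim
import Groth.Agent.FibDim.RelDim
import Groth.Agent.S1341
import Groth.Agent.S1342
import Groth.Agent.S2155
import Groth.Agent.S9374
import Groth.Agent.S0341

/-!
# Pointwise properties of morphisms of schemes which are etale local, open and stable under base change
-/

set_option autoImplicit false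
set_option linter.style.haveILetI false
set_option backward.isDefEq.respectTransparency false
set_option backward.isDefEq.respectTransparency.types false

universe u

open CategoryTheory CategoryTheory.Limits AlgebraicGeometry IsLocalRing Groth.Agent.AlgSpLib

namespace Groth.Agent.CurvStLib

variable {X Y Z : Scheme.{u}}

theorem isPtLocal_koszul : IsPtLocal (fun {U V} (g : U ⟶ V) x => Synt.IsKoszulAt g x) where
  comp_left r h _ _ _ x := AlgSpDec.KoszulWhere.isKoszulAt_comp_left_iff r h x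
  comp_right k e _ _ _ x := AlgSpDec.KoszulWhere.isKoszulAt_comp_right_iff k e x
  isOpen f _ _ := isOpen_iff_forall_mem_open.2 fun x hx => by
    obtain ⟨U, hxU, hU⟩ := AlgSpDec.KoszulWhere.exists_open_forall_isKoszulAt f hx
    exact ⟨U, hU, U.2, hxU⟩
  baseChange {X Y X' Y' g' f' f g} sq _ _ x' := by
    haveI : Flat (f ≫ 𝟙 Y) := by rw [Category.comp_id]; infer_instance
    haveI : LocallyOfFinitePresentation (f ≫ 𝟙 Y) := by rw [Category.comp_id]; infer_instance
    exact KRegLib.isKoszulAt_baseChange_iff f (𝟙 Y) (h := g) (gY := g) (g' := 𝟙 Y')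
      (IsPullback.of_vert_isIso ⟨by simp⟩) sq x'

theorem isPtLocal_gorenstein : IsPtLocal (fun {U V} (g : U ⟶ V) x => (g.stalkMap x).hom.Flat ∧
    LocCoh.IsGorensteinLocalRing ((g.fiber (g x)).presheaf.stalk (g.asFiber x))) where
  comp_left r h _ _ _ x := AlgSpDec.GorAt.gorAt_comp_left_iff r h x
  comp_right k e _ _ _ x := AlgSpDec.GorAt.gorAt_comp_right_iff k e x
  isOpen f _ _ := AlgSpDec.GorOpen.isOpen_gor f
  baseChange sq _ _ x' := AlgSpDec.GorField.gorAt_iff_baseChange sq x'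

/-- Cohen-Macaulayness of quotients along an unramified flat local homomorphism. -/
theorem cm_quot_iff {B B' : Type u} [CommRing B] [IsLocalRing B] [CommRing B'] [IsLocalRing B']
    [Algebra B B'] [IsLocalHom (algebraMap B B')] [Module.Flat B B']
    (hm : (maximalIdeal B).map (algebraMap B B') = maximalIdeal B') (I : Ideal B) (hI : I ≠ ⊤)
    (hN : IsNoetherianRing (B ⧸ I) → IsNoetherianRing (B' ⧸ I.map (algebraMap B B'))) :
    LocCoh.IsCohenMacaulayLocalRing (B ⧸ I) ↔
      LocCoh.IsCohenMacaulayLocalRing (B' ⧸ I.map (algebraMap B B')) := by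
  have hI' : I.map (algebraMap B B') ≠ ⊤ := fun h => (maximalIdeal.isMaximal B').ne_top
    (top_le_iff.1 (h ▸ hm ▸ Ideal.map_mono (le_maximalIdeal hI)))
  haveI : Nontrivial (B ⧸ I) := Ideal.Quotient.nontrivial_iff.2 hI
  haveI : Nontrivial (B' ⧸ I.map (algebraMap B B')) := Ideal.Quotient.nontrivial_iff.2 hI'
  haveI : IsLocalRing (B ⧸ I) := .of_surjective' (Ideal.Quotient.mk I) Ideal.Quotient.mk_surjective
  haveI : IsLocalRing (B' ⧸ I.map (algebraMap B B')) :=
    .of_surjective' (Ideal.Quotient.mk _) Ideal.Quotient.mk_surjective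
  letI : Algebra (B ⧸ I) (B' ⧸ I.map (algebraMap B B')) := Ideal.Quotient.algebraQuotientMapQuotient
  haveI : IsLocalHom (algebraMap (B ⧸ I) (B' ⧸ I.map (algebraMap B B'))) := ⟨fun x hx => by
    obtain ⟨r, rfl⟩ := Ideal.Quotient.mk_surjective x
    haveI := IsLocalHom.of_surjective (Ideal.Quotient.mk (I.map (algebraMap B B'))) Ideal.Quotient.mk_surjective
    have h1 : IsUnit (Ideal.Quotient.mk (I.map (algebraMap B B')) (algebraMap B B' r)) := hx
    exact ((isUnit_map_iff (algebraMap B B') r).1 ((isUnit_map_iff (Ideal.Quotient.mk _) _).1 h1)).map _⟩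
  haveI : Module.Flat (B ⧸ I) (B' ⧸ I.map (algebraMap B B')) := Triage.SliceFlat.flat_quotient_map (A := B) (T := B') I
  haveI : Module.FaithfullyFlat (B ⧸ I) (B' ⧸ I.map (algebraMap B B')) :=
    Module.FaithfullyFlat.of_flat_of_isLocalHom
  have hm' : (maximalIdeal (B ⧸ I)).map (algebraMap (B ⧸ I) (B' ⧸ I.map (algebraMap B B'))) =
      maximalIdeal (B' ⧸ I.map (algebraMap B B')) := by
    have e1 := IsLocalRing.map_maximalIdeal_of_surjective (Ideal.Quotient.mk I) Ideal.Quotient.mk_surjective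
    have e2 := IsLocalRing.map_maximalIdeal_of_surjective (Ideal.Quotient.mk (I.map (algebraMap B B')))
      Ideal.Quotient.mk_surjective
    rw [← e1, ← e2, ← hm, Ideal.map_map, Ideal.map_map]
    rfl
  have hF : IsField ((B' ⧸ I.map (algebraMap B B')) ⧸
      (maximalIdeal (B ⧸ I)).map (algebraMap (B ⧸ I) (B' ⧸ I.map (algebraMap B B')))) := by
    rw [← Ideal.Quotient.maximal_ideal_iff_isField_quotient, hm']
    infer_instance
  have hfC : LocCoh.IsCohenMacaulayLocalRing ((B' ⧸ I.map (algebraMap B B')) ⧸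
      (maximalIdeal (B ⧸ I)).map (algebraMap (B ⧸ I) (B' ⧸ I.map (algebraMap B B')))) :=
    letI := hF.toField
    haveI := S0342.result ((B' ⧸ I.map (algebraMap B B')) ⧸
      (maximalIdeal (B ⧸ I)).map (algebraMap (B ⧸ I) (B' ⧸ I.map (algebraMap B B'))))
    S0341.result _
  constructor
  · intro h
    haveI := h
    haveI : IsNoetherianRing (B ⧸ I) := inferInstance
    haveI := hN inferInstance
    exact (Triage.CMMor.isCM_iff (B ⧸ I) _).2 ⟨h, hfC⟩
  · intro h
    haveI := h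
    haveI : IsNoetherianRing (B' ⧸ I.map (algebraMap B B')) := inferInstance
    haveI := Hensel.isNoetherianRing_of_faithfullyFlat' (B ⧸ I) (B' ⧸ I.map (algebraMap B B'))
    exact ((Triage.CMMor.isCM_iff (B ⧸ I) _).1 h).1

theorem cmAt_comp_right_iff (k : X ⟶ Y) (e : Y ⟶ Z) [Etale e] (x : X) :
    MoreMor.IsCMAt (k ≫ e) x ↔ MoreMor.IsCMAt k x := by
  rw [Triage.CMMor.isCMAt_iff, Triage.CMMor.isCMAt_iff, AlgSpDec.GorAt.flatAt_comp_right_iff']
  refine and_congr_right fun _ => ?_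
  have e' : (maximalIdeal (Z.presheaf.stalk ((k ≫ e) x))).map ((k ≫ e).stalkMap x).hom =
      (maximalIdeal (Y.presheaf.stalk (k x))).map (k.stalkMap x).hom := by
    have hm : (maximalIdeal (Z.presheaf.stalk (e (k x)))).map (e.stalkMap (k x)).hom =
        maximalIdeal (Y.presheaf.stalk (k x)) := MorLib.WT.map_maximalIdeal_stalkMap e (k x)
    rw [← hm, Ideal.map_map, Scheme.Hom.stalkMap_comp]
    rfl
  exact Triage.CMMor.isCM_congr (Ideal.quotEquivOfEq e')

theorem cmAt_comp_left_iff (r : X ⟶ Y) [Etale r] (h : Y ⟶ Z) (x : X) :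
    MoreMor.IsCMAt (r ≫ h) x ↔ MoreMor.IsCMAt h (r x) := by
  rw [Triage.CMMor.isCMAt_iff, Triage.CMMor.isCMAt_iff, flatAt_comp_left_iff r h x (Flat.stalkMap r x)]
  refine and_congr_right fun _ => ?_
  letI := (r.stalkMap x).hom.toAlgebra
  haveI : IsLocalHom (algebraMap (Y.presheaf.stalk (r x)) (X.presheaf.stalk x)) :=
    inferInstanceAs (IsLocalHom (r.stalkMap x).hom)
  haveI : Module.Flat (Y.presheaf.stalk (r x)) (X.presheaf.stalk x) := Flat.stalkMap r x
  set I : Ideal (Y.presheaf.stalk (r x)) :=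
    (maximalIdeal (Z.presheaf.stalk (h (r x)))).map (h.stalkMap (r x)).hom
  have hI : I ≠ ⊤ := fun hh => (maximalIdeal.isMaximal _).ne_top
    (top_le_iff.1 (hh.ge.trans (show I ≤ maximalIdeal _ from
      Ideal.map_le_iff_le_comap.2 fun a ha => map_nonunit (h.stalkMap (r x)).hom a ha)))
  have key := cm_quot_iff (B := Y.presheaf.stalk (r x)) (B' := X.presheaf.stalk x)
    (MorLib.WT.map_maximalIdeal_stalkMap r x) I hI (fun hN => by
      haveI : Algebra.EssFiniteType (Y.presheaf.stalk (r x)) (X.presheaf.stalk x) :=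
        LocallyOfFiniteType.stalkMap r x
      haveI : Algebra.EssFiniteType (Y.presheaf.stalk (r x))
          (X.presheaf.stalk x ⧸ I.map (algebraMap (Y.presheaf.stalk (r x)) (X.presheaf.stalk x))) :=
        Algebra.EssFiniteType.comp _ (X.presheaf.stalk x) _
      letI : Algebra (Y.presheaf.stalk (r x) ⧸ I)
          (X.presheaf.stalk x ⧸ I.map (algebraMap (Y.presheaf.stalk (r x)) (X.presheaf.stalk x))) :=
        (Ideal.quotientMap _ (algebraMap (Y.presheaf.stalk (r x)) (X.presheaf.stalk x)) Ideal.le_comap_map).toAlgebra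
      haveI : IsScalarTower (Y.presheaf.stalk (r x)) (Y.presheaf.stalk (r x) ⧸ I)
          (X.presheaf.stalk x ⧸ I.map (algebraMap (Y.presheaf.stalk (r x)) (X.presheaf.stalk x))) :=
        .of_algebraMap_eq fun _ => rfl
      haveI := hN
      haveI := Algebra.EssFiniteType.of_comp (Y.presheaf.stalk (r x)) (Y.presheaf.stalk (r x) ⧸ I)
        (X.presheaf.stalk x ⧸ I.map (algebraMap (Y.presheaf.stalk (r x)) (X.presheaf.stalk x)))
      exact Algebra.EssFiniteType.isNoetherianRing (Y.presheaf.stalk (r x) ⧸ I) _)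
  have e' : (maximalIdeal (Z.presheaf.stalk ((r ≫ h) x))).map ((r ≫ h).stalkMap x).hom =
      I.map (algebraMap (Y.presheaf.stalk (r x)) (X.presheaf.stalk x)) := by
    rw [Ideal.map_map, Scheme.Hom.stalkMap_comp]
    rfl
  rw [key]
  exact Triage.CMMor.isCM_congr (Ideal.quotEquivOfEq e')

theorem isPtLocal_cm : IsPtLocal (fun {U V} (g : U ⟶ V) x => MoreMor.IsCMAt g x) where
  comp_left r h _ _ _ x := cmAt_comp_left_iff r h x
  comp_right k e _ _ _ x := cmAt_comp_right_iff k e x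
  isOpen f _ _ := (S1341.result f).1
  baseChange sq _ _ x' := Set.ext_iff.1 (S1342.result _ _ _ _ sq) x'

/-- The pointwise property "has `Q` and the local dimension of the fibre is one". -/
theorem isPtLocal_and_dimOne {Q : ∀ {U V : Scheme.{u}}, (U ⟶ V) → ↥U → Prop} (hQ : IsPtLocal Q)
    (hcm : ∀ {X Y : Scheme.{u}} (f : X ⟶ Y) (x : X), Q f x → MoreMor.IsCMAt f x) :
    IsPtLocal (fun {U V} (g : U ⟶ V) x => Q g x ∧ FlatMor.fibreDimAt g x = ((1 : ℕ) : WithBot ℕ∞)) where
  comp_left r h _ _ _ x := by rw [hQ.comp_left r h x, AlgSpDec.fibreDimAt_etale_comp r h x]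
  comp_right k e _ _ _ x := by rw [hQ.comp_right k e x, AlgSpDec.fibreDimAt_comp_etale k e x]
  isOpen {X Y} f _ _ := by
    let U : X.Opens := ⟨{x | Q f x}, hQ.isOpen f⟩
    haveI : LocallyOfFinitePresentation (U.ι ≫ f) := inferInstance
    have hU : ∀ x : U, MoreMor.IsCMAt (U.ι ≫ f) x := fun x =>
      (cmAt_comp_left_iff U.ι f x).2 (hcm f _ x.2)
    have ho : IsOpen ((fun x : U => FlatMor.fibreDimAt (U.ι ≫ f) x) ⁻¹' {((1 : ℕ) : WithBot ℕ∞)}) :=
      (S9374.result (U.ι ≫ f) hU) _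
    convert U.ι.isOpenEmbedding.isOpenMap _ ho using 1
    ext x
    constructor
    · rintro ⟨hx, hd⟩
      refine ⟨⟨x, hx⟩, ?_, rfl⟩
      show FlatMor.fibreDimAt (U.ι ≫ f) _ = _
      rw [AlgSpDec.fibreDimAt_etale_comp]
      exact hd
    · rintro ⟨z, hz, rfl⟩
      have hz' : FlatMor.fibreDimAt (U.ι ≫ f) z = _ := hz
      rw [AlgSpDec.fibreDimAt_etale_comp] at hz'
      exact ⟨z.2, hz'⟩
  baseChange {X Y X' Y' g' f' f g} sq _ _ x' := by
    haveI : LocallyOfFiniteType f' := MorphismProperty.of_isPullback (P := @LocallyOfFiniteType) sq inferInstance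
    rw [hQ.baseChange sq x', FibDim.fibreDimAt_baseChange sq x']

theorem gor_cm (f : X ⟶ Y) (x : X) (h : (f.stalkMap x).hom.Flat ∧
    LocCoh.IsGorensteinLocalRing ((f.fiber (f x)).presheaf.stalk (f.asFiber x))) : MoreMor.IsCMAt f x :=
  ⟨h.1, haveI := h.2; S0341.result _⟩

theorem isPtLocal_cm_dimOne : IsPtLocal (fun {U V} (g : U ⟶ V) x =>
    MoreMor.IsCMAt g x ∧ FlatMor.fibreDimAt g x = ((1 : ℕ) : WithBot ℕ∞)) :=
  isPtLocal_and_dimOne isPtLocal_cm fun _ _ h => h

theorem isPtLocal_gorenstein_dimOne : IsPtLocal (fun {U V} (g : U ⟶ V) x =>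
    ((g.stalkMap x).hom.Flat ∧ LocCoh.IsGorensteinLocalRing ((g.fiber (g x)).presheaf.stalk (g.asFiber x))) ∧
      FlatMor.fibreDimAt g x = ((1 : ℕ) : WithBot ℕ∞)) :=
  isPtLocal_and_dimOne isPtLocal_gorenstein gor_cm

/-! ## Smoothness -/

/-- Smooth in a neighbourhood of a point. -/
def SmoothNear (f : X ⟶ Y) (x : X) : Prop := ∃ U : X.Opens, x ∈ U ∧ Smooth (U.ι ≫ f)

theorem smoothNear_iff (f : X ⟶ Y) [LocallyOfFinitePresentation f] (x : X) :
    SmoothNear f x ↔ x ∈ f.smoothLocus := by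
  refine ⟨fun ⟨U, hx, hU⟩ => ?_, fun hx => ⟨f.smoothLocus, hx, ?_⟩⟩
  · have h : (⟨x, hx⟩ : U) ∈ U.ι ⁻¹ᵁ f.smoothLocus := by
      rw [Scheme.Hom.preimage_smoothLocus_eq, Scheme.Hom.smoothLocus_eq_top]; trivial
    exact h
  · rw [← Scheme.Hom.smoothLocus_eq_top_iff, ← Scheme.Hom.preimage_smoothLocus_eq, Scheme.Opens.ι_preimage_self]

theorem smoothNear_comp_left_iff (r : X ⟶ Y) [Etale r] (h : Y ⟶ Z) (x : X) :
    SmoothNear (r ≫ h) x ↔ SmoothNear h (r x) := by
  constructor
  · rintro ⟨U, hx, hU⟩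
    let O : Y.Opens := ⟨Set.range (U.ι ≫ r), (U.ι ≫ r).isOpenMap.isOpen_range⟩
    let l : (U : Scheme.{u}) ⟶ O := IsOpenImmersion.lift O.ι (U.ι ≫ r) (by rw [Scheme.Opens.range_ι]; rfl)
    have hl : l ≫ O.ι = U.ι ≫ r := IsOpenImmersion.lift_fac _ _ _
    haveI : Etale (l ≫ O.ι) := hl ▸ inferInstance
    haveI : Etale l := IsEtLocal.cancel_right (P := @Etale) l O.ι ‹_›
    haveI : Surjective l := ⟨fun y => by
      obtain ⟨u, hu⟩ := y.2
      refine ⟨u, O.ι.isOpenEmbedding.injective ?_⟩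
      rw [← Scheme.Hom.comp_apply, hl]
      exact hu⟩
    refine ⟨O, ⟨⟨x, hx⟩, rfl⟩, IsEtLocal.of_precomp (P := @Smooth) l (O.ι ≫ h) ‹_› ‹_› ?_⟩
    rw [← Category.assoc, hl, Category.assoc]
    exact hU
  · rintro ⟨U, hx, hU⟩
    refine ⟨r ⁻¹ᵁ U, hx, ?_⟩
    haveI := hU
    have e : (r ⁻¹ᵁ U).ι ≫ r = (r ∣_ U) ≫ U.ι := (morphismRestrict_ι r U).symm
    rw [← Category.assoc, e, Category.assoc]
    infer_instance

theorem smoothNear_comp_right_iff (k : X ⟶ Y) (e : Y ⟶ Z) [Etale e] (x : X) :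
    SmoothNear (k ≫ e) x ↔ SmoothNear k x := by
  constructor
  · rintro ⟨U, hx, hU⟩
    rw [← Category.assoc] at hU
    exact ⟨U, hx, IsEtLocal.cancel_right (P := @Smooth) (U.ι ≫ k) e hU⟩
  · rintro ⟨U, hx, hU⟩
    haveI := hU
    exact ⟨U, hx, by rw [← Category.assoc]; infer_instance⟩

theorem isPtLocal_smooth : IsPtLocal (fun {U V} (g : U ⟶ V) x => SmoothNear g x) where
  comp_left r h _ _ _ x := smoothNear_comp_left_iff r h x
  comp_right k e _ _ _ x := smoothNear_comp_right_iff k e x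
  isOpen f _ _ := by simp only [smoothNear_iff]; exact f.smoothLocus.2
  baseChange {X Y X' Y' g' f' f g} sq _ _ x' := by
    haveI : LocallyOfFinitePresentation f' :=
      MorphismProperty.of_isPullback (P := @LocallyOfFinitePresentation) sq ‹_›
    rw [smoothNear_iff, smoothNear_iff, S2155.result f g f' g' sq (Or.inl ‹_›)]
    rfl

theorem smooth_iff_forall_near (f : X ⟶ Y) : Smooth f ↔ ∀ x, SmoothNear f x := by
  refine ⟨fun _ x => ⟨⊤, trivial, inferInstance⟩, fun h => ?_⟩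
  choose U hx hU using h
  exact IsZariskiLocalAtSource.of_iSup_eq_top U (top_unique fun x _ => TopologicalSpace.Opens.mem_iSup.2 ⟨x, hx x⟩) hU

theorem isPtLocal_smooth_dimOne : IsPtLocal (fun {U V} (g : U ⟶ V) x =>
    SmoothNear g x ∧ FlatMor.fibreDimAt g x = ((1 : ℕ) : WithBot ℕ∞)) where
  comp_left r h _ _ _ x := by rw [smoothNear_comp_left_iff r h x, AlgSpDec.fibreDimAt_etale_comp r h x]
  comp_right k e _ _ _ x := by rw [smoothNear_comp_right_iff k e x, AlgSpDec.fibreDimAt_comp_etale k e x]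
  isOpen {X Y} f _ _ := isOpen_iff_forall_mem_open.2 fun x ⟨⟨U, hx, hU⟩, hd⟩ => by
    haveI := hU
    obtain ⟨V, j, v, n, hj, hv, hn⟩ := AlgSpDec.SmoothLocDim.exists_smoothOfRelativeDimension_nhd (U.ι ≫ f) ⟨x, hx⟩
    have hdim : ∀ w, FlatMor.fibreDimAt f (U.ι (j w)) = (n : WithBot ℕ∞) := fun w => by
      rw [← AlgSpDec.fibreDimAt_etale_comp U.ι f (j w), ← AlgSpDec.fibreDimAt_etale_comp j (U.ι ≫ f) w]
      exact S2768.result n _ w
    have hx' : U.ι (j v) = x := by rw [hv]; rfl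
    refine ⟨Set.range (j ≫ U.ι), ?_, (j ≫ U.ι).isOpenEmbedding.isOpen_range, v, hx'⟩
    rintro _ ⟨w, rfl⟩
    refine ⟨⟨U, (j w).2, hU⟩, ?_⟩
    rw [← hd, ← hx', hdim v, Scheme.Hom.comp_apply, hdim w]
  baseChange {X Y X' Y' g' f' f g} sq _ _ x' := by
    haveI : LocallyOfFiniteType f' := MorphismProperty.of_isPullback (P := @LocallyOfFiniteType) sq inferInstance
    rw [isPtLocal_smooth.baseChange sq x', FibDim.fibreDimAt_baseChange sq x']

theorem smoothOne_iff_forall (f : X ⟶ Y) : SmoothOfRelativeDimension 1 f ↔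
    ∀ x, SmoothNear f x ∧ FlatMor.fibreDimAt f x = ((1 : ℕ) : WithBot ℕ∞) := by
  refine ⟨fun _ x => ⟨⟨⊤, trivial, ?_⟩, S2768.result 1 f x⟩, fun h => ?_⟩
  · haveI := SmoothOfRelativeDimension.smooth 1 f
    infer_instance
  · haveI : Smooth f := (smooth_iff_forall_near f).2 fun x => (h x).1
    choose V j v n hj hv hn using fun x => AlgSpDec.SmoothLocDim.exists_smoothOfRelativeDimension_nhd f x
    have hn1 : ∀ x, n x = 1 := fun x => by
      have h1 : FlatMor.fibreDimAt (j x ≫ f) (v x) = (n x : WithBot ℕ∞) := by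
        haveI := hn x
        exact S2768.result _ _ _
      haveI := hj x
      rw [AlgSpDec.fibreDimAt_etale_comp, hv x, (h x).2] at h1
      exact_mod_cast h1.symm
    have hc : ∀ x, SmoothOfRelativeDimension 1 (j x ≫ f) := fun x => hn1 x ▸ hn x
    refine IsZariskiLocalAtSource.of_iSup_eq_top (P := @SmoothOfRelativeDimension 1) (fun x => (j x).opensRange)
      (top_unique fun x _ => TopologicalSpace.Opens.mem_iSup.2 ⟨x, v x, hv x⟩) fun x => ?_
    haveI := hj x
    rw [← (MorphismProperty.cancel_left_of_respectsIso (@SmoothOfRelativeDimension 1) (j x).isoOpensRange.hom _),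
      ← Category.assoc, Scheme.Hom.isoOpensRange_hom_ι]
    exact hc x

end Groth.Agent.CurvStLib
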