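import Groth.Prelude.Def_StCurv2
import Groth.Agent.CurvStLib.Props
import Groth.Agent.NodeLib.NodalMax
import Groth.Agent.NodeLib.NodalFamEtale
import Groth.Agent.NodeLib.NodalBC

/-!
# Being nodal near a point is a local pointwise property
-/

set_option autoImplicit false
set_option linter.style.haveILetI false
set_option backward.isDefEq.respectTransparency false
set_option backward.isDefEq.respectTransparency.types false

universe u

open CategoryTheory CategoryTheory.Limits AlgebraicGeometry Groth.Agent.AlgSpLib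

namespace Groth.Agent.CurvStLib

variable {X Y Z : Scheme.{u}}

/-- At-worst-nodal of relative dimension one in a neighbourhood of a point. -/
def NodalNear (f : X ⟶ Y) (x : X) : Prop := ∃ U : X.Opens, x ∈ U ∧ Curv2.IsNodalFamily (U.ι ≫ f)

theorem nodalNear_comp_left_iff (r : X ⟶ Y) [Etale r] (h : Y ⟶ Z) (x : X) :
    NodalNear (r ≫ h) x ↔ NodalNear h (r x) := by
  constructor
  · rintro ⟨U, hx, hU⟩
    let O : Y.Opens := ⟨Set.range (U.ι ≫ r), (U.ι ≫ r).isOpenMap.isOpen_range⟩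
    let l : (U : Scheme.{u}) ⟶ O := IsOpenImmersion.lift O.ι (U.ι ≫ r) (by rw [Scheme.Opens.range_ι]; rfl)
    have hl : l ≫ O.ι = U.ι ≫ r := IsOpenImmersion.lift_fac _ _ _
    haveI : Etale (l ≫ O.ι) := hl ▸ inferInstance
    haveI : Etale l := IsEtLocal.cancel_right (P := @Etale) l O.ι ‹_›
    refine ⟨O, ⟨⟨x, hx⟩, rfl⟩, NodeLib.isNodalFamily_of_etale_cover (O.ι ≫ h) PUnit.{u + 1}
      (fun _ => (U : Scheme.{u})) (fun _ => l) (fun y => ?_) fun _ => ?_⟩
    · obtain ⟨u, hu⟩ := y.2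
      refine ⟨PUnit.unit, u, O.ι.isOpenEmbedding.injective ?_⟩
      rw [← Scheme.Hom.comp_apply, hl]
      exact hu
    · rw [← Category.assoc, hl, Category.assoc]
      exact hU
  · rintro ⟨U, hx, hU⟩
    refine ⟨r ⁻¹ᵁ U, hx, ?_⟩
    have e : (r ⁻¹ᵁ U).ι ≫ r = (r ∣_ U) ≫ U.ι := (morphismRestrict_ι r U).symm
    rw [← Category.assoc, e, Category.assoc]
    exact NodeLib.isNodalFamily_precomp _ hU _

theorem isNodalFamily_cancel_right (k : X ⟶ Y) (e : Y ⟶ Z) [Etale e] (h : Curv2.IsNodalFamily (k ≫ e)) :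
    Curv2.IsNodalFamily k := by
  let γ : X ⟶ pullback (k ≫ e) e := pullback.lift (𝟙 X) k (Category.id_comp _)
  haveI : Etale (γ ≫ pullback.fst (k ≫ e) e) := by rw [pullback.lift_fst]; infer_instance
  haveI : Etale γ := IsEtLocal.cancel_right (P := @Etale) γ (pullback.fst (k ≫ e) e) ‹_›
  have := NodeLib.isNodalFamily_precomp _ (NodeLib.isNodalFamily_baseChange (k ≫ e) h e) γ
  rwa [pullback.lift_snd] at this

theorem nodalNear_comp_right_iff (k : X ⟶ Y) (e : Y ⟶ Z) [Etale e] (x : X) :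
    NodalNear (k ≫ e) x ↔ NodalNear k x := by
  constructor
  · rintro ⟨U, hx, hU⟩
    rw [← Category.assoc] at hU
    exact ⟨U, hx, isNodalFamily_cancel_right _ e hU⟩
  · rintro ⟨U, hx, hU⟩
    exact ⟨U, hx, by rw [← Category.assoc]; exact NodeLib.isNodalFamily_postcomp e _ hU⟩

theorem isPtLocal_nodal : IsPtLocal (fun {U V} (g : U ⟶ V) x => NodalNear g x) where
  comp_left r h _ _ _ x := nodalNear_comp_left_iff r h x
  comp_right k e _ _ _ x := nodalNear_comp_right_iff k e x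
  isOpen f _ _ := isOpen_iff_forall_mem_open.2 fun x ⟨U, hx, hU⟩ => ⟨U, fun y hy => ⟨U, hy, hU⟩, U.2, hx⟩
  baseChange {X Y X' Y' g' f' f g} sq _ _ x' := by
    constructor
    · rintro ⟨V, hx, hV⟩
      obtain ⟨U, hU, hU'⟩ := NodeLib.exists_nodal_nhd_of_baseChange sq V hV hx
      exact ⟨U, hU, hU'⟩
    · rintro ⟨U, hx, hU⟩
      exact ⟨g' ⁻¹ᵁ U, hx, NodeLib.isNodalFamily_preimage sq U hU⟩

theorem nodalFam_iff_forall_near (f : X ⟶ Y) : CurvSt.nodalFam f ↔ ∀ x, NodalNear f x := by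
  refine ⟨fun h x => ⟨⊤, trivial, NodeLib.isNodalFamily_precomp f h _⟩, fun h => ?_⟩
  choose U hx hU using h
  exact NodeLib.isNodalFamily_of_etale_cover f X (fun x => (U x : Scheme.{u})) (fun x => (U x).ι)
    (fun x => ⟨x, ⟨x, hx x⟩, rfl⟩) hU

theorem nodalNear_of_smoothOne (f : X ⟶ Y) [SmoothOfRelativeDimension 1 f] (x : X) : NodalNear f x :=
  haveI := SmoothOfRelativeDimension.smooth 1 f
  ⟨⊤, trivial, NodeLib.isNodalFamily_precomp f (NodeLib.isNodalFamily_of_smooth f fun x => S2768.result 1 f x) _⟩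

end Groth.Agent.CurvStLib
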