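import Groth.Agent.CurvStLib.Families
import Groth.Agent.CurvStLib.Props
import Groth.Agent.AlgSpDec.AffineProps
import Groth.Agent.AlgSpPts.Misc
import Groth.Agent.SmoothCrit.Sch
import Groth.Agent.GrpSchLib.SmoothRegular
import Groth.Agent.CurveEmbed.P1
import Groth.Agent.CurveEmbed.Conic
import Groth.Agent.S10829

/-!
# Families of curves with scheme total space
-/

set_option autoImplicit false
set_option linter.style.haveILetI false
set_option backward.isDefEq.respectTransparency false
set_option backward.isDefEq.respectTransparency.types false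

universe u

open CategoryTheory CategoryTheory.Limits AlgebraicGeometry Opposite AlgSp

namespace Groth.Agent.CurvStLib

open Groth.Agent.AlgSpLib

variable {S : Scheme.{u}} (T : Over S) {X : Scheme.{u}} (p : X ⟶ T.left)

/-- The family of sheaves of a scheme over the base. -/
noncomputable def schObj : CurvSt.SpFamObj S 0 :=
  (CurvSt.toSpFam S 0).obj ⟨T, X, p, Fin.elim0, fun i => i.elim0⟩

theorem locP_schObj {Q : ∀ {U V : Scheme.{u}}, (U ⟶ V) → ↥U → Prop} (hQ : IsPtLocal Q) [Flat p]
    [LocallyOfFinitePresentation p] (h : ∀ x, Q p x) :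
    LocP (fun _ _ g => ∀ x, Q g x) (schObj T p).f := by
  let A : CurvSt.PtFamObj S 0 := ⟨T, X, p, Fin.elim0, fun i => i.elim0⟩
  haveI : Flat A.fOver.left := ‹Flat p›
  haveI : LocallyOfFinitePresentation A.fOver.left := ‹LocallyOfFinitePresentation p›
  have hfl : LocP @Flat ((yon S).map A.fOver) := locP_of_repWith ((repWith_yon_map_iff @Flat _).2 inferInstance)
  have hfp : LocP @LocallyOfFinitePresentation ((yon S).map A.fOver) :=
    locP_of_repWith ((repWith_yon_map_iff @LocallyOfFinitePresentation _).2 inferInstance)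
  refine (locP_iff_locus _).2 (Set.eq_univ_of_forall fun x => ?_)
  obtain ⟨u, rfl⟩ := surjective_ofPt (repWith_id @Surjective A.totOver) x
  exact (mem_locus_iff hQ hfl hfp (repWith_id _ _) (repWith_id _ T) (Category.id_comp _ |>.trans (Category.comp_id _).symm) u).2 (h u)

theorem isCurveFam_schObj [Flat p] [IsProper p] [LocallyOfFinitePresentation p]
    (hd : ∀ x, FlatMor.fibreDimAt p x ≤ ((1 : ℕ) : WithBot ℕ∞)) : CurvSt.IsCurveFam (schObj T p) := by
  let A : CurvSt.PtFamObj S 0 := ⟨T, X, p, Fin.elim0, fun i => i.elim0⟩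
  haveI : Flat A.fOver.left := ‹Flat p›
  haveI : IsProper A.fOver.left := ‹IsProper p›
  haveI : LocallyOfFinitePresentation A.fOver.left := ‹LocallyOfFinitePresentation p›
  refine ⟨IsAlgSpace.yon_obj _, locP_of_repWith ((repWith_yon_map_iff @Flat _).2 inferInstance), ⟨?_, ⟨?_, ?_⟩, ?_⟩,
    ⟨?_, ?_, ?_⟩, fun x => ?_⟩
  · exact (isSeparatedMor_yon_map_iff _).2 inferInstance
  · exact locP_of_repWith ((repWith_yon_map_iff @LocallyOfFiniteType _).2 inferInstance)
  · exact AlgSpPts.isQuasiCompactMor_of_repWith ((repWith_yon_map_iff @QuasiCompact _).2 inferInstance)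
  · exact AlgSpDec.isUnivClosedMor_of_repWith_universallyClosed
      ((repWith_yon_map_iff @UniversallyClosed _).2 inferInstance)
  · exact locP_of_repWith ((repWith_yon_map_iff @LocallyOfFinitePresentation _).2 inferInstance)
  · exact AlgSpPts.isQuasiCompactMor_of_repWith ((repWith_yon_map_iff @QuasiCompact _).2 inferInstance)
  · exact (isQuasiSeparatedMor_yon_map_iff _).2 inferInstance
  · obtain ⟨u, rfl⟩ := surjective_ofPt (repWith_id @Surjective A.totOver) x
    exact ⟨A.totOver, T, 𝟙 _, 𝟙 _, A.fOver, u, repWith_id _ _, repWith_id _ _,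
      (Category.id_comp _).trans (Category.comp_id _).symm, rfl, hd u⟩

/-- The family of curves of a scheme over the base. -/
noncomputable def schCurve [Flat p] [IsProper p] [LocallyOfFinitePresentation p]
    (hd : ∀ x, FlatMor.fibreDimAt p x ≤ ((1 : ℕ) : WithBot ℕ∞)) : (CurvSt.Curves S 0).obj :=
  ⟨schObj T p, isCurveFam_schObj T p hd⟩

theorem nonempty_fiber {Q : (CurvSt.Curves S 0).obj → Prop} [Flat p] [IsProper p] [LocallyOfFinitePresentation p]
    (hd : ∀ x, FlatMor.fibreDimAt p x ≤ ((1 : ℕ) : WithBot ℕ∞)) (h : Q (schCurve T p hd)) :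
    Nonempty ((AlgSt.fullSub (CurvSt.Curves S 0) Q).p.Fiber T) :=
  ⟨⟨⟨schCurve T p hd, h⟩, rfl⟩⟩

/-! ## The projective line -/

section ProjLine

variable (k : Type u) [Field k]

theorem smoothOne_projLine : SmoothOfRelativeDimension 1 (CohB1.ProjSpace.toSpec 1 k) :=
  haveI : Smooth (CohB1.ProjSpace.toSpec 1 k) := CurveEmbed.smooth_toSpec 1 k
  haveI := H23.PnChart.isIntegral_projSpace 1 k
  SmoothCrit.smoothOfRelativeDimension_dim _ 1 (S10829.result k 1)

theorem fibreDimAt_projLine (x : CohB1.ProjSpace 1 k) :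
    FlatMor.fibreDimAt (CohB1.ProjSpace.toSpec 1 k) x = ((1 : ℕ) : WithBot ℕ∞) :=
  haveI := smoothOne_projLine k
  S2768.result 1 _ x

/-- A property of all smooth curves holds on the family of the projective line. -/
theorem nonempty_fiber_projLine {Q : (CurvSt.Curves S 0).obj → Prop} (t : Spec (CommRingCat.of k) ⟶ S)
    (h : ∀ [Smooth (CohB1.ProjSpace.toSpec 1 k)] [IsProper (CohB1.ProjSpace.toSpec 1 k)],
      Q (schCurve (Over.mk t) (CohB1.ProjSpace.toSpec 1 k) fun x => (fibreDimAt_projLine k x).le)) :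
    Nonempty ((AlgSt.fullSub (CurvSt.Curves S 0) Q).p.Fiber (Over.mk t)) :=
  haveI : Smooth (CohB1.ProjSpace.toSpec 1 k) := CurveEmbed.smooth_toSpec 1 k
  haveI : IsProper (CohB1.ProjSpace.toSpec 1 k) := PnCoh.Chow.isProper_toSpec 1 k
  nonempty_fiber _ _ _ h

theorem gorAt_projLine (x : CohB1.ProjSpace 1 k) [Smooth (CohB1.ProjSpace.toSpec 1 k)] :
    ((CohB1.ProjSpace.toSpec 1 k).stalkMap x).hom.Flat ∧ LocCoh.IsGorensteinLocalRing
      (((CohB1.ProjSpace.toSpec 1 k).fiber (CohB1.ProjSpace.toSpec 1 k x)).presheaf.stalk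
        ((CohB1.ProjSpace.toSpec 1 k).asFiber x)) := by
  obtain ⟨hfl, ⟨e⟩⟩ := CurvLocusLib.fibre_of_etale_base (CohB1.ProjSpace.toSpec 1 k) (𝟙 _) x
  haveI := GrpSchLib.isRegularLocalRing_stalk_of_smooth (CohB1.ProjSpace.toSpec 1 k) x
  exact ⟨hfl, CurvLocusLib.gor_of_equiv e (S0342.result _)⟩

end ProjLine

end Groth.Agent.CurvStLib
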